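import Groth.Agent.Lib.ProjMor.Embed
import Groth.Agent.Lib.ProjMor.Pieces
import Groth.Agent.Lib.Ample.Basis
import Groth.Agent.Lib.Ample.Restrict
import Groth.Agent.Lib.TensorMod.QCohInv

/-!
# Sections vanishing on a closed subscheme: loci, extension, generation
-/

set_option autoImplicit false
noncomputable section
universe u

open CategoryTheory CategoryTheory.Limits AlgebraicGeometry TopologicalSpace Opposite

namespace Groth.Agent.Lib.ProjMor75.KerSec

open TensorMod TensorMod.Dual TensorMod.Gen TensorMod.HomGlue TensorMod.Pullback Ample.GenLocus Ample.Extend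
open Groth.Agent.Lib.ProjMor Groth.Agent.Lib.ProjMor.Sec Groth.Agent.Lib.ProjMor.Frame

variable {X Z : Scheme.{u}} (i : Z ⟶ X)

abbrev IsZ {M : X.Modules} (m : ProjUP.Γm M) : Prop := ProjUP.pullSec i M m = 0

theorem coord_eq_zero {M : X.Modules} {m : ProjUP.Γm M} (hm : IsZ i m) {V : X.Opens} {e : Γ(M, V)}
    (he : IsGen M V e) {c : Γ(X, V)} (hc : gl m V = c • e) : i.app V c = 0 := by
  have h := gl_pullSec i m V
  rw [hc, unitSec_smul, show ProjUP.pullSec i M m = 0 from hm, gl, rs,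
    map_zero ((Scheme.Modules.pullback i).obj M |>.presheaf.map (homOfLE le_top).op).hom] at h
  refine (isGen_unitSec i he (i ⁻¹ᵁ V) le_rfl).1 ?_
  simp only [rs_self, zero_smul]
  exact h.symm

theorem isZ_of {M : X.Modules} {m : ProjUP.Γm M}
    (h : ∀ z : Z, ∃ (V : X.Opens) (e : Γ(M, V)) (c : Γ(X, V)) (O : Z.Opens) (hO : O ≤ i ⁻¹ᵁ V),
      z ∈ O ∧ IsGen M V e ∧ gl m V = c • e ∧ rf hO (i.app V c) = 0) :
    IsZ i m := by
  choose V e c O hO hz he hc h0 using h
  refine sections_ext_cover O _ (fun z _ => Opens.mem_iSup.2 ⟨z, hz z⟩) fun z => ?_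
  have h1 : gl (ProjUP.pullSec i M m) (O z) = 0 := by
    rw [← rs_gl (hO z), gl_pullSec, hc, unitSec_smul, rs_smul, h0, zero_smul]
  have h2 := congrArg (rs ((pb i).obj M) (inf_le_right : (⊤ : Z.Opens) ⊓ O z ≤ O z)) h1
  rw [rs_gl] at h2
  refine h2.trans ?_
  simp only [rs, map_zero]

theorem exists_frame {M : X.Modules} (hM : PicF.IsInvertible M) (x : X) :
    ∃ (V : X.Opens) (e : Γ(M, V)), x ∈ V ∧ IsAffineOpen V ∧ IsGen M V e := by
  obtain ⟨U, e, hxU, he⟩ := isInvertible_iff.1 hM x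
  obtain ⟨V, hV, hxV, hsub⟩ := exists_isAffineOpen_mem_and_subset (X := X) (U := U) hxU
  exact ⟨V, _, hxV, hV, he.res hsub⟩

section mul

variable {A B C : X.Modules} (φ : CohB1.tensorMod A B ≅ C)

/-- The product of two sections through `φ`. -/
def mul {U : X.Opens} (s : Γ(A, U)) (w : Γ(B, U)) : Γ(C, U) :=
  φ.hom.app U (SecTwist.tmul A B U s w)

theorem rs_mul {U V : X.Opens} (h : V ≤ U) (s : Γ(A, U)) (w : Γ(B, U)) :
    rs C h (mul φ s w) = mul φ (rs A h s) (rs B h w) :=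
  (rs_app φ.hom h _).trans (congrArg (φ.hom.app V) (rs_tmul h s w))

theorem mul_smul' {U : X.Opens} (a b : Γ(X, U)) (s : Γ(A, U)) (w : Γ(B, U)) :
    mul φ (a • s) (b • w) = (a * b) • mul φ s w :=
  (congrArg (φ.hom.app U) (tmul_smul a b s w)).trans (Scheme.Modules.Hom.app_smul _ _ _)

theorem isGen_mul {U : X.Opens} {s : Γ(A, U)} {w : Γ(B, U)} (hs : IsGen A U s) (hw : IsGen B U w) :
    IsGen C U (mul φ s w) :=
  isGen_of_isIso_over (isIso_over_of_iso φ U) (isGen_tmul hs hw)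

theorem gl_mul {s : ProjUP.Γm A} {w : ProjUP.Γm B} {V : X.Opens} {e : Γ(A, V)} {e' : Γ(B, V)} {a b : Γ(X, V)}
    (ha : gl s V = a • e) (hb : gl w V = b • e') :
    gl (mul φ s w : ProjUP.Γm C) V = (a * b) • mul φ e e' := by
  refine (rs_mul φ le_top s w).trans ?_
  change mul φ (gl s V) (gl w V) = _
  rw [ha, hb, mul_smul']

theorem isZ_mul (hA : PicF.IsInvertible A) (hB : PicF.IsInvertible B) {s : ProjUP.Γm A} (hs : IsZ i s)
    (w : ProjUP.Γm B) : IsZ i (mul φ s w : ProjUP.Γm C) := by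
  refine isZ_of i fun z => ?_
  obtain ⟨V, e, hzV, -, he⟩ := exists_frame hA (i z)
  obtain ⟨W, e', hzW, -, he'⟩ := exists_frame hB (i z)
  have g := he.res (inf_le_left : V ⊓ W ≤ V)
  have g' := he'.res (inf_le_right : V ⊓ W ≤ W)
  obtain ⟨a, ha⟩ := exists_coord g (gl s (V ⊓ W))
  obtain ⟨b, hb⟩ := exists_coord g' (gl w (V ⊓ W))
  exact ⟨V ⊓ W, _, a * b, i ⁻¹ᵁ (V ⊓ W), le_rfl, ⟨hzV, hzW⟩, isGen_mul φ g g', gl_mul φ ha hb, by
    rw [map_mul, coord_eq_zero i hs g ha, zero_mul]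
    exact map_zero _⟩

theorem locus_mul (hA : PicF.IsInvertible A) (hB : PicF.IsInvertible B) (s : ProjUP.Γm A) (w : ProjUP.Γm B) :
    locus (mul φ s w : ProjUP.Γm C) = locus s ⊓ locus w := by
  apply Opens.ext
  ext x
  obtain ⟨V, e, hxV, -, he⟩ := exists_frame hA x
  obtain ⟨W, e', hxW, -, he'⟩ := exists_frame hB x
  have g := he.res (inf_le_left : V ⊓ W ≤ V)
  have g' := he'.res (inf_le_right : V ⊓ W ≤ W)
  obtain ⟨a, ha⟩ := exists_coord g (gl s (V ⊓ W))
  obtain ⟨b, hb⟩ := exists_coord g' (gl w (V ⊓ W))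
  have h1 := SetLike.ext_iff.1 (locus_inf_eq (isGen_mul φ g g') (gl_mul φ ha hb)) x
  have h2 := SetLike.ext_iff.1 (locus_inf_eq g ha) x
  have h3 := SetLike.ext_iff.1 (locus_inf_eq g' hb) x
  rw [Scheme.basicOpen_mul] at h1
  have hx : x ∈ V ⊓ W := ⟨hxV, hxW⟩
  constructor
  · intro h
    exact ⟨(h2.2 (h1.1 ⟨h, hx⟩).1).1, (h3.2 (h1.1 ⟨h, hx⟩).2).1⟩
  · intro h
    exact (h1.2 ⟨h2.1 ⟨h.1, hx⟩, h3.1 ⟨h.2, hx⟩⟩).1

end mul

open Ample.Pow in
/-- Powers of a section whose locus avoids `Z` vanish on `Z` eventually. -/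
theorem exists_power [CompactSpace Z] {L : X.Modules} (hL : PicF.IsInvertible L) {m : ℕ}
    (σ : ProjUP.Γm (CohB1.tensorPow L m)) (hσ : ∀ z, i z ∉ locus σ) :
    ∃ (N : ℕ) (s : ProjUP.Γm (CohB1.tensorPow L (m * N))), 0 < N ∧ IsZ i s ∧ locus s = locus σ := by
  have hLm := Invertible.isInvertible_tensorPow hL m
  choose V e hzV hV he using fun z : Z => exists_frame hLm (i z)
  choose O hO hzO hOV using fun z : Z => exists_isAffineOpen_mem_and_subset (X := Z) (U := i ⁻¹ᵁ V z) (hzV z)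
  choose a ha using fun z : Z => exists_coord (he z) (gl σ (V z))
  obtain ⟨t, ht⟩ := isCompact_univ.elim_finite_subcover (fun z => (O z : Set Z)) (fun z => (O z).isOpen)
    fun z _ => Set.mem_iUnion.2 ⟨z, hzO z⟩
  have hnil : ∀ z : Z, ∀ᶠ N in Filter.atTop, rf (hOV z) (i.app (V z) (a z)) ^ N = 0 := fun z => by
    have h0 : Z.basicOpen (rf (hOV z) (i.app (V z) (a z))) = ⊥ := by
      rw [Scheme.basicOpen_res, ← Scheme.preimage_basicOpen, eq_bot_iff]
      rintro y ⟨-, hy⟩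
      exact hσ y ((locus_inf_eq (he z) (ha z)).ge hy).1
    obtain ⟨N, hN⟩ := (Scheme.isNilpotent_iff_basicOpen_eq_bot_of_isCompact (hO z).isCompact _).2 h0
    exact Filter.eventually_atTop.2 ⟨N, fun k hk => pow_eq_zero_of_le hk hN⟩
  obtain ⟨N, hN, hN1⟩ := (((Filter.eventually_all_finset t).2 fun z _ => hnil z).and
    (Filter.eventually_ge_atTop 1)).exists
  let σh := Modules.Free.unitHom (CohB1.tensorPow L m) σ
  let s : ProjUP.Γm (CohB1.tensorPow L (m * N)) := (powMul L m N).hom.app ⊤ (powSec σ N)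
  have hgl : ∀ U : X.Opens, gl s U = (powMul L m N).hom.app U (powSec (gl σ U) N) := fun U =>
    (rs_app _ _ _).trans (congrArg _ (rs_powSec _ _ N))
  refine ⟨N, s, hN1, isZ_of i fun z => ?_, ?_⟩
  · obtain ⟨w, hw, hzw⟩ := Set.mem_iUnion₂.1 (ht (Set.mem_univ z))
    refine ⟨V w, (powMul L m N).hom.app (V w) (powSec (e w) N), a w ^ N, O w, hOV w, hzw,
      isGen_of_isIso_over (isIso_over_of_iso (powMul L m N) (V w)) (isGen_powSec (he w) N), ?_, ?_⟩
    · rw [hgl, ha, powSec_smul, Scheme.Modules.Hom.app_smul]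
    · rw [map_pow]
      exact (map_pow _ _ _).trans (hN w hw)
  · apply Opens.ext
    ext x
    obtain ⟨W, e', hxW, -, he'⟩ := exists_frame hLm x
    obtain ⟨b, hb⟩ := exists_coord he' (gl σ W)
    have hs : gl s W = b ^ N • (powMul L m N).hom.app W (powSec e' N) := by
      rw [hgl, hb, powSec_smul, Scheme.Modules.Hom.app_smul]
    have h1 := SetLike.ext_iff.1 (locus_inf_eq (isGen_of_isIso_over (isIso_over_of_iso (powMul L m N) W)
      (isGen_powSec he' N)) hs) x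
    have h2 := SetLike.ext_iff.1 (locus_inf_eq he' hb) x
    rw [show X.basicOpen (b ^ N) = X.basicOpen b from Scheme.basicOpen_pow _ _ hN1] at h1
    exact ⟨fun h => (h2.2 (h1.1 ⟨h, hxW⟩)).1, fun h => (h1.2 (h2.1 ⟨h, hxW⟩)).1⟩

theorem eventually_ext [CompactSpace X] [QuasiSeparatedSpace X] {L M : X.Modules} (hL : PicF.IsInvertible L)
    (hM : PicF.IsInvertible M) (s : ProjUP.Γm L) (t : Γ(M, locus s)) :
    ∀ᶠ q in Filter.atTop, ∃ w : ProjUP.Γm (CohB1.tensorMod M (CohB1.tensorPow L q)),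
      gl w (locus s) = SecTwist.tmul M (CohB1.tensorPow L q) (locus s) t (powSec (gl s (locus s)) q) := by
  have := QCohInv.isQCoh_of_isInvertible hM
  filter_upwards [eventually_extension (F := M) hL (Modules.Free.unitHom L s) t] with q hq
  obtain ⟨w, hw⟩ := hq
  refine ⟨w, hw.trans ((twist_eq (e := gl s (locus s)) (a := 1)
    ((sv_unitHom s (locus s)).trans (one_smul _ _).symm) q t).trans ?_)⟩
  simp only [one_pow, one_smul]

open Ample.Pow in
/-- Sections of high degree vanishing on `Z` realise every function on the affine locus as a ratio. -/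
theorem eventually_ratios [CompactSpace X] [QuasiSeparatedSpace X] {L : X.Modules} (hL : PicF.IsInvertible L)
    {a : ℕ} (ha : 0 < a) (s : ProjUP.Γm (CohB1.tensorPow L a)) (hs : IsZ i s) {G : Γ(L, locus s)}
    (hG : IsGen L (locus s) G) (F : Finset Γ(X, locus s)) :
    ∃ n₁ : ℕ, ∀ n, n₁ ≤ n → ∃ v : ProjUP.Γm (CohB1.tensorPow L n), IsZ i v ∧ locus v = locus s ∧
      ∀ f ∈ F, ∃ w : ProjUP.Γm (CohB1.tensorPow L n), IsZ i w ∧ gl w (locus s) = f • gl v (locus s) := by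
  classical
  have hLa := Invertible.isInvertible_tensorPow hL a
  have h1 : ∀ r : Fin a, ∀ᶠ q in Filter.atTop, ∀ f ∈ insert (1 : Γ(X, locus s)) F,
      ∃ w : ProjUP.Γm (CohB1.tensorMod (CohB1.tensorPow L r) (CohB1.tensorPow (CohB1.tensorPow L a) q)),
        gl w (locus s) = SecTwist.tmul _ _ (locus s) (f • powSec G r) (powSec (gl s (locus s)) q) := fun r =>
    (Filter.eventually_all_finset _).2 fun f _ =>
      eventually_ext hLa (Invertible.isInvertible_tensorPow hL r) s (f • powSec G r)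
  obtain ⟨q₀, hq₀⟩ := Filter.eventually_atTop.1 (Filter.eventually_all.2 h1)
  refine ⟨a * (q₀ + 2), fun n hn => ?_⟩
  let r := (n - a) % a
  let q := (n - a) / a
  have hq : q₀ ≤ q := by
    refine (Nat.le_div_iff_mul_le ha).2 (Nat.le_sub_of_add_le (le_trans ?_ hn))
    rw [Nat.mul_add, Nat.mul_comm a q₀]
    omega
  have hna : a + (r + a * q) = n := by
    show a + ((n - a) % a + a * ((n - a) / a)) = n
    have h2 := Nat.mod_add_div (n - a) a
    have h3 : a ≤ n := le_trans (Nat.le_mul_of_pos_right a (by omega)) hn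
    omega
  let φ : CohB1.tensorMod (CohB1.tensorPow L a)
      (CohB1.tensorMod (CohB1.tensorPow L r) (CohB1.tensorPow (CohB1.tensorPow L a) q)) ≅ CohB1.tensorPow L n :=
    TensorMod.Basic.tensorIso (Iso.refl _)
      (TensorMod.Basic.tensorIso (Iso.refl _) (powMul L a q) ≪≫ (powAdd L r (a * q)).symm) ≪≫
      (powAdd L a (r + a * q)).symm ≪≫ powCongr L hna
  choose w hw using fun f => hq₀ q hq ⟨r, Nat.mod_lt _ ha⟩ f
  let v : ProjUP.Γm (CohB1.tensorPow L n) := mul φ s (w 1 (Finset.mem_insert_self _ _))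
  let B := CohB1.tensorMod (CohB1.tensorPow L r) (CohB1.tensorPow (CohB1.tensorPow L a) q)
  let g : Γ(B, locus s) := SecTwist.tmul _ _ (locus s) (powSec G r) (powSec (gl s (locus s)) q)
  have hg : IsGen B (locus s) g := isGen_tmul (isGen_powSec hG r) (isGen_powSec (isGen_locus s) q)
  have hw' : ∀ f hf, gl (w f hf) (locus s) = f • g := fun f hf => by
    rw [hw f hf]
    refine Eq.trans ?_ ((tmul_smul f 1 (powSec G r) (powSec (gl s (locus s)) q)).trans (by rw [mul_one]; rfl))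
    rw [one_smul]
  have hval : ∀ f hf, gl (mul φ s (w f hf) : ProjUP.Γm (CohB1.tensorPow L n)) (locus s) =
      f • mul φ (gl s (locus s)) g := fun f hf => by
    rw [gl_mul φ (a := 1) (one_smul _ _).symm (hw' f hf), one_mul]
  have hB : PicF.IsInvertible B :=
    Invertible.isInvertible_tensorMod (Invertible.isInvertible_tensorPow hL r) (Invertible.isInvertible_tensorPow hLa q)
  have hloc : locus v = locus s := by
    refine (locus_mul φ hLa hB s _).trans (inf_eq_left.2 (le_locus ?_))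
    rw [hw', one_smul]
    exact hg
  refine ⟨v, isZ_mul i φ hLa hB hs _, hloc, fun f hf => ⟨mul φ s (w f (Finset.mem_insert_of_mem hf)),
    isZ_mul i φ hLa hB hs _, ?_⟩⟩
  rw [hval, hval 1, one_smul]

section imm

open Main (scalOn)

variable {k : Type u} [Field k] {W : Scheme.{u}} (q : W ⟶ Spec (CommRingCat.of k)) {M : W.Modules} {r : ℕ}

/-- A combination of the given sections. -/
abbrev comb (t : Fin (r + 1) → ProjUP.Γm M) (c : Fin (r + 1) → k) : ProjUP.Γm M :=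
  ∑ l, ProjUP.toGlobal q (c l) • t l

theorem gl_comb (t : Fin (r + 1) → ProjUP.Γm M) (c : Fin (r + 1) → k) (U : W.Opens) :
    gl (comb q t c) U = ∑ l, scalOn q U (c l) • gl (t l) U := by
  refine (map_sum (M.presheaf.map (homOfLE le_top).op).hom _ _).trans (Finset.sum_congr rfl fun l _ => ?_)
  exact rs_smul M le_top _ _

theorem scalOn_pullback {P : Scheme.{u}} (π : P ⟶ Spec (CommRingCat.of k)) (φ : W ⟶ P) (hφ : φ ≫ π = q) {D : P.Opens}
    {U : W.Opens} (h : U ≤ φ ⁻¹ᵁ D) (c : k) : φ.appLE D U h (scalOn π D c) = scalOn q U c := by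
  subst hφ
  exact DFunLike.congr_fun (congrArg CommRingCat.Hom.hom
    ((φ.map_appLE h (homOfLE (le_top : D ≤ ⊤)).op).trans rfl)) (ProjUP.toGlobal π c)

theorem mem_locus_of_comb (t : Fin (r + 1) → ProjUP.Γm M) (hM : PicF.IsInvertible M) {c : Fin (r + 1) → k} {x : W}
    (hx : x ∈ locus (comb q t c)) : ∃ j, x ∈ locus (t j) := by
  obtain ⟨V, e, hxV, -, he⟩ := exists_frame hM x
  choose a ha using fun l => exists_coord he (gl (t l) V)
  have h1 : gl (comb q t c) V = (∑ l, scalOn q V (c l) * a l) • e := by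
    rw [gl_comb, Finset.sum_smul]
    simp only [ha, smul_smul]
  have h2 := (W.mem_basicOpen _ x hxV).1 ((locus_inf_eq he h1).le ⟨hx, hxV⟩)
  by_contra hall
  push Not at hall
  have h3 : ∀ l, W.presheaf.germ V x hxV (a l) ∈ IsLocalRing.maximalIdeal (W.presheaf.stalk x) := fun l hu =>
    hall l ((locus_inf_eq he (ha l)).ge ((W.mem_basicOpen (a l) x hxV).2 hu)).1
  refine (IsLocalRing.mem_maximalIdeal _).1 ?_ h2
  rw [map_sum]
  exact Ideal.sum_mem _ fun l _ => by rw [map_mul]; exact Ideal.mul_mem_left _ _ (h3 l)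

theorem isImmersion (hM : PicF.IsInvertible M) (t : Fin (r + 1) → ProjUP.Γm M) (φ : W ⟶ CohB1.ProjSpace r k)
    (hφ : φ ≫ CohB1.ProjSpace.toSpec r k = q)
    (τ : (Scheme.Modules.pullback φ).obj (Twist.twistProjSpace r k 1) ≅ M)
    (hτ : ∀ l, τ.hom.app ⊤ (ProjUP.pullSec φ (Twist.twistProjSpace r k 1) (ProjUP.coord r k l)) = t l)
    (h : ∀ x, ∃ c, x ∈ locus (comb q t c) ∧ IsAffineOpen (locus (comb q t c)) ∧
      ∀ z : Γ(W, locus (comb q t c)), z ∈ Subring.closure (Set.range (scalOn q (locus (comb q t c))) ∪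
        {a | ∃ d, gl (comb q t d) (locus (comb q t c)) = a • gl (comb q t c) (locus (comb q t c))})) :
    IsImmersion φ := by
  let 𝒜 := CohB1.polyGrading r k
  let el : Fin (r + 1) → 𝒜 1 := fun l => ⟨MvPolynomial.X l, MvPolynomial.isHomogeneous_X k l⟩
  have hcv := Main.cover (Poly.lin_mem r k) (Poly.adjoin_lin r k)
  have hinv : PicF.IsInvertible (Twist.twist 𝒜 1) :=
    Groth.Agent.Lib.ProjTilde.Invertible.twist_isInvertible_of_cover (fun x => by
      obtain ⟨c, hc⟩ := hcv x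
      exact ⟨c, c.2, hc⟩) 1
  let D₀ : Fin (r + 1) → (CohB1.ProjSpace r k).Opens := fun j =>
    Proj.basicOpen 𝒜 (el j : MvPolynomial (Fin (r + 1)) k)
  have hloc : ∀ j, locus (t j) = φ ⁻¹ᵁ D₀ j := fun j => by
    rw [show D₀ j = locus (g 𝒜 (el j)) from (locus_g hcv (el j)).symm]
    exact (congrArg locus (hτ j)).symm.trans ((locus_iso τ _).trans (locus_pullback hinv φ _))
  let F : ∀ _ : Fin (r + 1) → k, ∀ j, Γ(CohB1.ProjSpace r k, D₀ j) := fun d j =>
    ∑ l, scalOn (CohB1.ProjSpace.toSpec r k) (D₀ j) (d l) * (show Γ(CohB1.ProjSpace r k, D₀ j) from fr 𝒜 (el j) (el l))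
  have hF : ∀ d j (U : W.Opens) (hU : U ≤ φ ⁻¹ᵁ D₀ j),
      gl (comb q t d) U = φ.appLE (D₀ j) U hU (F d j) • gl (t j) U := fun d j U hU => by
    rw [gl_comb, map_sum, Finset.sum_smul]
    refine Finset.sum_congr rfl fun l _ => ?_
    rw [map_mul, mul_smul, scalOn_pullback q _ φ hφ hU]
    exact congrArg (scalOn q U (d l) • ·) (Embed.ratio_of_iso (a := el j) (b := el l) τ (hτ j) (hτ l) hU)
  choose c hxc haff hgen using h
  choose j hj using fun x => mem_locus_of_comb q t hM (hxc x)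
  let D : W → (CohB1.ProjSpace r k).Opens := fun x => (CohB1.ProjSpace r k).basicOpen (F (c x) (j x))
  have hD : ∀ x, φ ⁻¹ᵁ D x = locus (comb q t (c x)) ⊓ locus (t (j x)) := fun x => by
    have h1 := locus_inf_eq (((isGen_locus (t (j x))).res (hloc (j x)).ge)) (m := comb q t (c x))
      (a := φ.appLE (D₀ (j x)) (φ ⁻¹ᵁ D₀ (j x)) le_rfl (F (c x) (j x))) (by rw [rs_gl]; exact hF _ _ _ _)
    rw [Scheme.Hom.appLE_eq_app, ← Scheme.preimage_basicOpen, ← hloc] at h1
    exact h1.symm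
  refine Pieces.isImmersion_of_pieces φ D (fun x => ⟨x, (hD x).ge ⟨hxc x, hj x⟩⟩) fun x => ?_
  let O := locus (comb q t (c x))
  let U := O ⊓ locus (t (j x))
  obtain ⟨h, hh⟩ := exists_coord (isGen_locus (comb q t (c x))) (gl (t (j x)) O)
  have hU : U = W.basicOpen h :=
    (inf_comm _ _).trans (locus_inf_eq (isGen_locus (comb q t (c x))) hh)
  have hUaff : IsAffineOpen U := hU ▸ (haff x).basicOpen h
  have hDaff : IsAffineOpen (D x) :=
    (Proj.isAffineOpen_basicOpen 𝒜 _ (el (j x)).2 one_pos).basicOpen _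
  have hUD : U ≤ φ ⁻¹ᵁ D₀ (j x) := inf_le_right.trans (hloc (j x)).le
  refine Pieces.isClosedImmersion_restrict φ hDaff hUaff (hD x) ?_
  let ψ := φ.appLE (D x) U (hD x).ge
  have hDD : D x ≤ D₀ (j x) := Scheme.basicOpen_le _ _
  have hψ : ∀ d, ψ (rf hDD (F d (j x))) = φ.appLE (D₀ (j x)) U hUD (F d (j x)) := fun d =>
    congr($(φ.map_appLE (hD x).ge (homOfLE hDD).op) (F d (j x)))
  obtain ⟨β, hβ⟩ : ∃ β, rf hDD (F (c x) (j x)) * β = 1 :=
    (RingedSpace.isUnit_res_basicOpen _ (F (c x) (j x))).exists_right_inv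
  let α : Γ(W, U) := ψ (rf hDD (F (c x) (j x)))
  have hαβ : α * ψ β = 1 := by rw [← map_mul, hβ, map_one]
  have hv : gl (comb q t (c x)) U = α • gl (t (j x)) U := by
    rw [show α = _ from hψ (c x)]
    exact hF _ _ _ _
  have hgt : IsGen M U (gl (t (j x)) U) := by
    have := (isGen_locus (t (j x))).res (inf_le_right : U ≤ locus (t (j x)))
    rwa [rs_gl] at this
  have hh' : rf (inf_le_left : U ≤ O) h * α = 1 := by
    refine (hgt U le_rfl).1 ?_
    simp only [rs_self, one_smul]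
    rw [mul_smul, ← hv]
    have h4 := congrArg (rs M (inf_le_left : U ≤ O)) hh
    rw [rs_gl, rs_smul, rs_gl] at h4
    exact h4.symm
  have himage : ∀ z : Γ(W, O), rf (inf_le_left : U ≤ O) z ∈ ψ.hom.range := fun z => by
    refine (Subring.closure_le (t := ψ.hom.range.comap (W.presheaf.map (homOfLE inf_le_left).op).hom)).2 ?_ (hgen x z)
    rintro a (⟨y, rfl⟩ | ⟨d, hd⟩)
    · refine ⟨scalOn (CohB1.ProjSpace.toSpec r k) (D x) y, ?_⟩
      refine (scalOn_pullback q _ φ hφ _ y).trans ?_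
      exact congr($((W.presheaf.map_comp (homOfLE le_top).op (homOfLE (inf_le_left : U ≤ O)).op))
        (ProjUP.toGlobal q y))
    · refine ⟨rf hDD (F d (j x)) * β, ?_⟩
      rw [map_mul, hψ]
      have h4 := congrArg (rs M (inf_le_left : U ≤ O)) hd
      rw [rs_gl, rs_smul, rs_gl, hF d (j x) U hUD, hv, smul_smul] at h4
      have h5 := (hgt U le_rfl).1 (show (fun b : Γ(W, U) => b • rs M le_rfl (gl (t (j x)) U)) _ =
        (fun b : Γ(W, U) => b • rs M le_rfl (gl (t (j x)) U)) _ by simpa only [rs_self] using h4)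
      change _ = rf _ a
      rw [h5, mul_assoc, hαβ, mul_one]
  intro z
  have hUh : U ≤ O := inf_le_left
  letI : Algebra Γ(W, O) Γ(W, U) := (W.presheaf.map (homOfLE hUh).op).hom.toAlgebra
  have : IsLocalization.Away h Γ(W, U) := (haff x).isLocalization_of_eq_basicOpen h (homOfLE hUh) hU
  obtain ⟨⟨a, ⟨_, N, rfl⟩⟩, hz⟩ := IsLocalization.surj (Submonoid.powers h) z
  have hz' : z * rf hUh h ^ N = rf hUh a := by
    rw [← map_pow]; exact hz
  obtain ⟨b, hb⟩ := himage a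
  refine ⟨b * rf hDD (F (c x) (j x)) ^ N, ?_⟩
  change ψ (b * _) = z
  rw [map_mul, map_pow, show ψ b = rf hUh a from hb, ← hz', mul_assoc, ← mul_pow]
  change z * (rf hUh h * α) ^ N = z
  rw [hh', one_pow, mul_one]

end imm

section restr

variable {Y : Scheme.{u}} (M : Y.Modules) (U : Y.Opens)

/-- A global section on an open subscheme. -/
abbrev rho (m : ProjUP.Γm M) : ProjUP.Γm (M.restrict U.ι) :=
  (M.restrictAppIso U.ι ⊤).inv ((M.presheaf.map (homOfLE le_top).op) m)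

/-- Restriction of sections to an open subscheme. -/
def resU (V : Y.Opens) (x : Γ(M, V)) : Γ(M.restrict U.ι, U.ι ⁻¹ᵁ V) :=
  (M.restrictAppIso U.ι _).inv (rs M (U.ι.image_preimage_le V) x)

theorem resU_smul (V : Y.Opens) (a : Γ(Y, V)) (x : Γ(M, V)) :
    resU M U V (a • x) = U.ι.app V a • resU M U V x := by
  rw [resU, rs_smul]
  apply (ConcreteCategory.bijective_of_isIso (M.restrictAppIso U.ι (U.ι ⁻¹ᵁ V)).hom).1
  rw [restrict_smul]
  simp only [resU, Iso.inv_hom_id_apply]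
  refine congrArg₂ (· • ·) ?_ rfl
  exact congr($((Scheme.Hom.app_appIso_inv U.ι V).symm) a)

theorem gl_rho (V : Y.Opens) (m : ProjUP.Γm M) : gl (rho M U m) (U.ι ⁻¹ᵁ V) = resU M U V (gl m V) := by
  have e2 : (M.restrictAppIso U.ι (U.ι ⁻¹ᵁ V)).hom (gl (rho M U m) (U.ι ⁻¹ᵁ V)) =
      rs M (le_top : U.ι ''ᵁ (U.ι ⁻¹ᵁ V) ≤ ⊤) m := by
    exact rs_rs M (le_top : U.ι ''ᵁ ⊤ ≤ ⊤) (Scheme.Hom.image_mono U.ι le_top) m
  apply (ConcreteCategory.bijective_of_isIso (M.restrictAppIso U.ι (U.ι ⁻¹ᵁ V)).hom).1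
  refine e2.trans ?_
  simp only [resU, Iso.inv_hom_id_apply]
  exact (rs_gl _ m).symm

theorem locus_rho (hM : PicF.IsInvertible M) (m : ProjUP.Γm M) : locus (rho M U m) = U.ι ⁻¹ᵁ locus m := by
  apply Opens.ext
  ext y
  obtain ⟨V, e, hyV, -, he⟩ := exists_frame hM (U.ι y)
  obtain ⟨a, ha⟩ := exists_coord he (gl m V)
  have hg : IsGen (M.restrict U.ι) (U.ι ⁻¹ᵁ V) (resU M U V e) := Ample.Restrict.isGen_restrict he U
  have h1 := locus_inf_eq hg (m := rho M U m) (a := U.ι.app V a) (by rw [gl_rho, ha, resU_smul])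
  rw [← Scheme.preimage_basicOpen, ← locus_inf_eq he ha] at h1
  have h2 := SetLike.ext_iff.1 h1 y
  exact ⟨fun h => (h2.1 ⟨h, hyV⟩).1, fun h => (h2.2 ⟨h, hyV⟩).1⟩

theorem rho_smul (a : Γ(Y, ⊤)) (m : ProjUP.Γm M) : rho M U (a • m) = U.ι.appTop a • rho M U m :=
  resU_smul M U ⊤ a m

theorem rho_sum {ι : Type*} (s : Finset ι) (m : ι → ProjUP.Γm M) :
    rho M U (∑ l ∈ s, m l) = ∑ l ∈ s, rho M U (m l) := by
  rw [rho, map_sum, map_sum]

variable {k : Type u} [Field k] (f : Y ⟶ Spec (CommRingCat.of k))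

theorem rho_comb {r : ℕ} (t : Fin (r + 1) → ProjUP.Γm M) (c : Fin (r + 1) → k) :
    rho M U (comb f t c) = comb (U.ι ≫ f) (fun l => rho M U (t l)) c := by
  rw [comb, rho_sum]
  exact Finset.sum_congr rfl fun l _ => rho_smul M U _ _

end restr

section main

variable {k : Type u} [Field k] (f : X ⟶ Spec (CommRingCat.of k))

open Main (scalOn) in
theorem eventually_good [LocallyOfFiniteType f] [QuasiSeparatedSpace X] [CompactSpace Z] {L : X.Modules}
    (hLa : CohB1.IsAmple L) (U : X.Opens) (hU : ∀ z, i z ∉ U) {x : X} (hx : x ∈ U) :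
    ∃ (O : X.Opens), x ∈ O ∧ O ≤ U ∧ IsAffineOpen O ∧ ∃ n₁ : ℕ, ∀ n, n₁ ≤ n →
      ∃ v : ProjUP.Γm (CohB1.tensorPow L n), IsZ i v ∧ locus v = O ∧
        ∀ z : Γ(X, O), z ∈ Subring.closure (Set.range (scalOn f O) ∪
          {a | ∃ w : ProjUP.Γm (CohB1.tensorPow L n), IsZ i w ∧ gl w O = a • gl v O}) := by
  obtain ⟨hL, hc, -⟩ := Ample.Pow.isAmple_iff.1 hLa
  haveI := hc
  obtain ⟨V, e, hxV, -, he⟩ := exists_frame hL x
  obtain ⟨m, hm, s₀, hxs, hsU, haff⟩ := Ample.Basis.exists_locus_subset hLa (U := U ⊓ V) (x := x) ⟨hx, hxV⟩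
  let σ : ProjUP.Γm (CohB1.tensorPow L m) := sv s₀ ⊤
  have hσ : locus σ = CohB1.genLocus _ s₀ := congrArg (CohB1.genLocus _)
    (Modules.Free.unitHom_ext (Modules.Free.unitHom_app_one _ _))
  obtain ⟨N, s, hN, hsz, hsl⟩ := exists_power i hL σ fun z hz => hU z (hsU (hσ ▸ hz)).1
  have hO : locus s ≤ U ⊓ V := (hsl.trans hσ).trans_le hsU
  have haffO : IsAffineOpen (locus s) := by rw [hsl, hσ]; exact haff
  have hft := f.finiteType_appLE (isAffineOpen_top _) haffO (le_top.trans (Scheme.Hom.preimage_top f).ge)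
  letI := (f.appLE ⊤ (locus s) (le_top.trans (Scheme.Hom.preimage_top f).ge)).hom.toAlgebra
  obtain ⟨F, hF⟩ := (hft : Algebra.FiniteType Γ(Spec (CommRingCat.of k), ⊤) Γ(X, locus s)).out
  obtain ⟨n₁, hn⟩ := eventually_ratios i hL (Nat.mul_pos hm hN) s hsz (he.res (hO.trans inf_le_right)) F
  refine ⟨locus s, by rw [hsl, hσ]; exact hxs, hO.trans inf_le_left, haffO, n₁, fun n hn' => ?_⟩
  obtain ⟨v, hv, hvl, hw⟩ := hn n hn'
  refine ⟨v, hv, hvl, fun z => ?_⟩
  have hz : z ∈ (Algebra.adjoin Γ(Spec (CommRingCat.of k), ⊤) (F : Set Γ(X, locus s))).toSubring := by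
    rw [hF]; exact (Algebra.mem_top : z ∈ (⊤ : Subalgebra Γ(Spec (CommRingCat.of k), ⊤) Γ(X, locus s)))
  rw [Algebra.adjoin_eq_ring_closure] at hz
  refine Subring.closure_mono (Set.union_subset ?_ fun a ha => Or.inr (hw a ha)) hz
  rintro _ ⟨y, rfl⟩
  obtain ⟨c, rfl⟩ := (ConcreteCategory.bijective_of_isIso (Scheme.ΓSpecIso (CommRingCat.of k)).inv).2 y
  exact Or.inl ⟨c, rfl⟩

end main

end Groth.Agent.Lib.ProjMor75.KerSec
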